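import Cfsg.Agent.CosetCert.Pack

/-! Generated: the justifications. -/

namespace Cfsg.Agent.CosetCert.LyChain4

def justStore : Store := (.leaf 0x1c0000400000000003010300000020007100071000710007100071000710007100071000710007100071000710007100071000710007100071000710007100071000710007100071000710007100071000710007100071000710007100071000710007100071000710007100071000710007100071000710007100071000710007100071000710007100071000710007100071000710007100071000710007100071000710000000000000000000000000)

end Cfsg.Agent.CosetCert.LyChain4
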