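import Cfsg.Agent.CosetCert.Pack

/-! Generated: the table. -/

namespace Cfsg.Agent.CosetCert.LyChain4

def edgeStore : Store := (.leaf 0x900003000000700002000000500001000000800004000000600004000000300000000000100000000000400003000000200002000000000001)

def repStore : Store := (.leaf 0x4000000000003000000000002000000000001000000000000)

def treeStore : Store := (.leaf 0x41000000000020000000000001000000000000000000000000)

end Cfsg.Agent.CosetCert.LyChain4
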