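import Cfsg.Agent.CosetCert.LyChain4.FactsData
import Cfsg.Agent.CosetCert.LyChain4.JustData
import Cfsg.Agent.CosetCert.LyChain4.TableData
import Cfsg.Prelude.Def_Spor_Ly
import Cfsg.Agent.CosetCert.CoxExtra
import Cfsg.Agent.CosetCert.Pack

/-! Generated: the certificate. -/

set_option maxRecDepth 100000

namespace Cfsg.Agent.CosetCert.LyChain4

noncomputable def data : Data where
  K := 2
  n := 5
  M := 4
  Nf := 5
  nR := 4
  iv := fun x => if x < 1 then x + 1 else if x < 2 then x - 1 else x
  F := get48 factStore
  J := getVar justStore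
  E := get48 edgeStore
  L := get48 repStore
  P := get48 treeStore
  W := [
    [0, 0, 0, 0, 0],
    [],
    [0, 1],
    [1, 0]]
  PW := fun k => Nat.land (Nat.shiftRight 0x22000000000000004100000000000000000000000000108421 (Nat.mul 64 k)) 0xffffffffffffffff
  powers := [
    ([0, 0, 0, 0, 0], 1),
    ([], 1),
    ([0, 1], 1),
    ([1, 0], 1)]

/-- The relators. -/
def relWords : List (List (Fin 1 × Bool)) := [
    [(0, true), (0, true), (0, true), (0, true), (0, true)]]

/-- The subgroup's generators. -/
def subLetters : List (Fin 1) := []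

/-- The numbering of the generators. -/
def enc (b : Fin 1) : Nat := b.val

/-- The generator of a number. -/
def dec (x : Nat) : Fin 1 × Bool := if x < 1 then (Fin.ofNat 1 x, true) else (Fin.ofNat 1 x, false)

/-- The generators among those of the Lyons group. -/
def ren : Fin 1 → Cfsg.Spor.Ly.Gen
  | ⟨0, _⟩ => .b

end Cfsg.Agent.CosetCert.LyChain4
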