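import Cfsg.Agent.CosetCert.Pack

/-! Generated: the facts of the log. -/

namespace Cfsg.Agent.CosetCert.LyChain4

def factStore : Store := (.leaf 0x400003010000400002000000300001010000200000000000100000)

end Cfsg.Agent.CosetCert.LyChain4
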